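import Cfsg.Agent.Lib.Fischer.X23.Ok
import Cfsg.Agent.Lib.Fischer.X23.B

set_option autoImplicit false
set_option maxRecDepth 100000

namespace Cfsg.Agent.Fi.X23

open Cfsg.Agent.PC

def Wl_t : TL := (TL.node (TL.node (TL.node (TL.node (TL.leaf []) (TL.leaf [nat_lit 12, nat_lit 0, nat_lit 8, nat_lit 12])) (TL.node (TL.leaf [nat_lit 12, nat_lit 0, nat_lit 4, nat_lit 12]) (TL.leaf [nat_lit 12, nat_lit 0]))) (TL.node (TL.node (TL.leaf [nat_lit 12, nat_lit 0, nat_lit 2, nat_lit 12]) (TL.leaf [nat_lit 10, nat_lit 0])) (TL.node (TL.leaf [nat_lit 12, nat_lit 0, nat_lit 6, nat_lit 12]) (TL.leaf [nat_lit 14, nat_lit 0])))) (TL.node (TL.node (TL.node (TL.leaf [nat_lit 12, nat_lit 0, nat_lit 1, nat_lit 12]) (TL.leaf [nat_lit 12, nat_lit 0, nat_lit 9, nat_lit 12])) (TL.node (TL.leaf [nat_lit 12, nat_lit 0, nat_lit 5, nat_lit 12]) (TL.leaf [nat_lit 13, nat_lit 0]))) (TL.node (TL.node (TL.leaf [nat_lit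 12, nat_lit 0, nat_lit 3, nat_lit 12]) (TL.leaf [nat_lit 10, nat_lit 0, nat_lit 11, nat_lit 10])) (TL.node (TL.leaf [nat_lit 10, nat_lit 0, nat_lit 7, nat_lit 10]) (TL.leaf [nat_lit 15, nat_lit 0])))))
noncomputable def Wl (i : ℕ) : List ℕ := TL.get Wl_t i
theorem trans {G : Type*} [Group G] {D : Set G} {pt : ℕ → G} (F : FD D T P 31671 16 pt) :
    ∀ x ∈ D, ∃ k : G, k * pt 0 * k⁻¹ = x := F.trans dsc (by norm_num) (W := Wl) (by decide +kernel)

end Cfsg.Agent.Fi.X23
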