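import Cfsg.Agent.Lib.Fischer.X23.R0
import Cfsg.Agent.Lib.Fischer.X23.R1

set_option autoImplicit false
set_option maxRecDepth 100000

namespace Cfsg.Agent.Fi.X23

open Cfsg.Agent.PC

theorem h0 : ∀ i < 31671, f i = 0 := by
  have h := zero_lt_zero f
  have h := zero_lt_add (a := (nat_lit 0)) (n := (nat_lit 2000)) (b := (nat_lit 2000)) h r0 rfl
  have h := zero_lt_add (a := (nat_lit 2000)) (n := (nat_lit 2000)) (b := (nat_lit 4000)) h r2000 rfl
  have h := zero_lt_add (a := (nat_lit 4000)) (n := (nat_lit 2000)) (b := (nat_lit 6000)) h r4000 rfl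
  have h := zero_lt_add (a := (nat_lit 6000)) (n := (nat_lit 2000)) (b := (nat_lit 8000)) h r6000 rfl
  have h := zero_lt_add (a := (nat_lit 8000)) (n := (nat_lit 2000)) (b := (nat_lit 10000)) h r8000 rfl
  have h := zero_lt_add (a := (nat_lit 10000)) (n := (nat_lit 2000)) (b := (nat_lit 12000)) h r10000 rfl
  have h := zero_lt_add (a := (nat_lit 12000)) (n := (nat_lit 2000)) (b := (nat_lit 14000)) h r12000 rfl
  have h := zero_lt_add (a := (nat_lit 14000)) (n := (nat_lit 2000)) (b := (nat_lit 16000)) h r14000 rfl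
  have h := zero_lt_add (a := (nat_lit 16000)) (n := (nat_lit 2000)) (b := (nat_lit 18000)) h r16000 rfl
  have h := zero_lt_add (a := (nat_lit 18000)) (n := (nat_lit 2000)) (b := (nat_lit 20000)) h r18000 rfl
  have h := zero_lt_add (a := (nat_lit 20000)) (n := (nat_lit 2000)) (b := (nat_lit 22000)) h r20000 rfl
  have h := zero_lt_add (a := (nat_lit 22000)) (n := (nat_lit 2000)) (b := (nat_lit 24000)) h r22000 rfl
  have h := zero_lt_add (a := (nat_lit 24000)) (n := (nat_lit 2000)) (b := (nat_lit 26000)) h r24000 rfl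
  have h := zero_lt_add (a := (nat_lit 26000)) (n := (nat_lit 2000)) (b := (nat_lit 28000)) h r26000 rfl
  have h := zero_lt_add (a := (nat_lit 28000)) (n := (nat_lit 2000)) (b := (nat_lit 30000)) h r28000 rfl
  have h := zero_lt_add (a := (nat_lit 30000)) (n := (nat_lit 1671)) (b := (nat_lit 31671)) h r30000 rfl
  exact h
theorem dsc : Dsc T P V 31671 16 6 := dsc_of fun c hc => (add_eq_zero' (h0 c hc)).2
theorem T_eq : ∀ j < 11, C23.T j = T j := by
  intro j hj
  refine getL_congr (t := C23.tt) (t' := tt) (w := (nat_lit 34)) (mask := (nat_lit 32767)) (j := j) (by omega) ?_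
  interval_cases j <;> rfl
theorem fd {G : Type*} [Group G] {D : Set G} {P0 : ℕ → ℕ} {pt : ℕ → G} (F : FD D C23.T P0 31671 11 pt)
    (h : ∀ j < 11, P0 j = P j) : FD D T P 31671 16 pt :=
  F.ext T_eq h (A := A) (L := L) (by decide +kernel) fun c hc => (add_eq_zero' (h0 c hc)).1

end Cfsg.Agent.Fi.X23
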